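import Cfsg.Agent.OmegaFour.Main

/-!
# Applications to subgroups normalized by elements of a finite group
-/

set_option autoImplicit false

namespace CfsgLib.OmegaFour

variable {G : Type*} [Group G] [Finite G]

theorem mem_normalizer_conj {H : Subgroup G} {g : G} (hg : g ∈ Subgroup.normalizer (H : Set G))
    {a : G} (ha : a ∈ H) : g * a * g⁻¹ ∈ H :=
  (Subgroup.mem_normalizer_iff.mp hg a).mp ha

/-- A four-group contains only the products of two of its nonidentity elements. -/
theorem eq_of_card_four {W : Subgroup G} (hW4 : Nat.card W = 4) (hW2 : ∀ a ∈ W, a * a = 1)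
    {u v : G} (hu : u ∈ W) (hv : v ∈ W) (hu1 : u ≠ 1) (hv1 : v ≠ 1) (huv : u ≠ v)
    {t : G} (ht : t ∈ W) : t = 1 ∨ t = u ∨ t = v ∨ t = u * v := by
  classical
  haveI : Fintype W := Fintype.ofFinite W
  have h1 : u * v ≠ 1 := fun h => huv (mul_left_cancel ((hW2 u hu).trans h.symm))
  have h2 : u * v ≠ u := fun h => hv1 (mul_left_cancel (h.trans (mul_one u).symm))
  have h3 : u * v ≠ v := fun h => hu1 (mul_right_cancel (h.trans (one_mul v).symm))
  have he : ({(1 : W), ⟨u, hu⟩, ⟨v, hv⟩, ⟨u * v, W.mul_mem hu hv⟩} : Finset W) = Finset.univ := by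
    apply Finset.eq_univ_of_card
    rw [← Nat.card_eq_fintype_card, hW4]
    simp [Finset.card_insert_of_notMem, Subtype.ext_iff, Ne.symm hu1, Ne.symm hv1, Ne.symm h1, huv,
      Ne.symm h2, Ne.symm h3]
  have := Finset.mem_univ (⟨t, ht⟩ : W)
  rw [← he] at this
  simpa [Subtype.ext_iff] using this

/-- Two commuting nonidentity elements of a four-group determine the centralized four-group. -/
theorem commute_of_two {W : Subgroup G} (hW4 : Nat.card W = 4) (hW2 : ∀ a ∈ W, a * a = 1) {g u v : G}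
    (hu : u ∈ W) (hv : v ∈ W) (hu1 : u ≠ 1) (hv1 : v ≠ 1) (huv : u ≠ v) (hgu : Commute g u)
    (hgv : Commute g v) : ∀ t ∈ W, Commute g t := by
  intro t ht
  rcases eq_of_card_four hW4 hW2 hu hv hu1 hv1 huv ht with rfl | rfl | rfl | rfl
  exacts [Commute.one_right g, hgu, hgv, hgu.mul_right hgv]

/-- An element of odd order fixing a point of a normalized four-group centralizes it. -/
theorem commute_of_odd {W : Subgroup G} (hW4 : Nat.card W = 4) (hW2 : ∀ a ∈ W, a * a = 1) {g : G}
    (hg : g ∈ Subgroup.normalizer (W : Set G)) (hodd : Odd (orderOf g)) {w : G} (hw : w ∈ W)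
    (hw1 : w ≠ 1) (hgw : Commute g w) : ∀ t ∈ W, Commute g t := by
  intro t ht
  by_cases ht1 : t = 1
  · subst ht1; exact Commute.one_right g
  by_cases htw : t = w
  · subst htw; exact hgw
  have hc := mem_normalizer_conj hg ht
  have hcw : g * w * g⁻¹ = w := mul_inv_eq_of_eq_mul hgw.eq
  rcases eq_of_card_four hW4 hW2 hw ht hw1 ht1 (Ne.symm htw) hc with h | h | h | h
  · exact absurd (conj_eq_one_iff.mp h) ht1
  · rw [← hcw] at h
    exact absurd (mul_left_cancel (mul_right_cancel h)) htw
  · exact mul_inv_eq_iff_eq_mul.mp h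
  · have h2 : Commute (g ^ 2) t := by
      refine mul_inv_eq_iff_eq_mul.mp ?_
      calc g ^ 2 * t * (g ^ 2)⁻¹ = g * (g * t * g⁻¹) * g⁻¹ := by rw [pow_two]; group
        _ = g * (w * t) * g⁻¹ := by rw [h]
        _ = g * w * g⁻¹ * (g * t * g⁻¹) := by group
        _ = t := by rw [hcw, h, ← mul_assoc, hW2 w hw, one_mul]
    obtain ⟨k, hk⟩ := hodd
    have hg' : g = (g ^ 2) ^ (k + 1) := by
      rw [← pow_mul, show 2 * (k + 1) = orderOf g + 1 by omega, pow_succ, pow_orderOf_eq_one, one_mul]
    rw [hg']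
    exact h2.pow_left _

/-- An element of order three centralizing the three involutions of a 2-group which are permuted
fixed-point-freely centralizes the whole 2-group. -/
theorem commute_of_three_involutions (Q W : Subgroup G) (hQ : IsPGroup 2 Q) (hWQ : W ≤ Q)
    (hW4 : Nat.card W = 4) (hW2 : ∀ a ∈ W, a * a = 1) (hWc : ∀ a ∈ W, ∀ p ∈ Q, Commute a p)
    (hinv : ∀ a ∈ Q, a * a = 1 → a ∈ W)
    (d : G) (hdQ : d ∈ Subgroup.normalizer (Q : Set G)) (hdW : d ∈ Subgroup.normalizer (W : Set G))
    (hd : ∀ a ∈ W, Commute d a → a = 1)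
    (x : G) (hxQ : x ∈ Subgroup.normalizer (Q : Set G)) (hxW : ∀ a ∈ W, Commute x a) (hx3 : x ^ 3 = 1) :
    ∀ p ∈ Q, Commute x p := by
  have key := eq_one_of_fixes_three_involutions hQ (W.subgroupOf Q)
    (fun a ha => Subgroup.mem_center_iff.mpr fun p => Subtype.ext (hWc a ha p p.2).eq.symm)
    (by rw [Nat.card_congr (Subgroup.subgroupOfEquivOfLe hWQ).toEquiv, hW4])
    (fun a ha => Subtype.ext (hW2 a ha))
    (fun a ha => hinv a a.2 (congrArg Subtype.val ha))
    (restrictAut Q (MulAut.conj d) fun a ha => by simpa using mem_normalizer_conj hdQ ha)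
    (fun a ha => by
      rw [Subgroup.mem_subgroupOf, restrictAut_coe, MulAut.conj_apply]
      exact mem_normalizer_conj hdW ha)
    (fun a ha h => Subtype.ext (hd a ha (mul_inv_eq_iff_eq_mul.mp (by
      simpa using congrArg Subtype.val h))))
    (restrictAut Q (MulAut.conj x) fun a ha => by simpa using mem_normalizer_conj hxQ ha)
    (fun a ha => Subtype.ext (by
      rw [restrictAut_coe, MulAut.conj_apply]
      exact mul_inv_eq_of_eq_mul (hxW a ha).eq))
    (by
      ext a
      simp only [pow_succ, pow_zero, one_mul, MulAut.mul_apply, restrictAut_coe, MulAut.conj_apply,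
        MulAut.one_apply]
      calc x * (x * (x * (a : G) * x⁻¹) * x⁻¹) * x⁻¹ = x ^ 3 * a * (x ^ 3)⁻¹ := by
            simp [pow_succ, mul_assoc]
        _ = a := by rw [hx3]; simp)
  intro p hp
  have := congrArg Subtype.val (DFunLike.congr_fun key (⟨p, hp⟩ : Q))
  exact mul_inv_eq_iff_eq_mul.mp (by simpa using this)

end CfsgLib.OmegaFour
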